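import Groth.Agent.H17.ZFinite.Closure
import Groth.Agent.H22Alg.DimFormula
import Groth.Agent.H1CAlg.ReflexiveNormal
import Groth.Prelude.Def_EGA4b
import Mathlib

/-!
# Height one hulls and closures
-/

set_option autoImplicit false
set_option linter.style.haveILetI false
universe u

namespace Groth.Agent.H17.ZFinite

/-- The height one hull as a submodule. -/
def hullMod (B : Type u) [CommRing B] [IsDomain B] : Submodule B (FractionRing B) where
  carrier := EGA4.heightOneHull B
  zero_mem' := fun p hp _ => ⟨1, hp.one_notMem, 0, by rw [mul_zero, map_zero]⟩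
  add_mem' := fun {x y} hx hy p hp h1 => by
    obtain ⟨s, hs, a, ha⟩ := hx p h1
    obtain ⟨t, ht, b, hb⟩ := hy p h1
    refine ⟨s * t, fun h => (hp.mem_or_mem h).elim hs ht, a * t + b * s, ?_⟩
    rw [map_add, map_mul, map_mul, map_mul, ha, hb]; ring
  smul_mem' := fun r x hx p hp h1 => by
    obtain ⟨s, hs, a, ha⟩ := hx p h1
    refine ⟨s, hs, r * a, ?_⟩
    rw [map_mul, ha, Algebra.smul_def]; ring

theorem heightOneHullFinite_iff (B : Type u) [CommRing B] [IsDomain B] :
    EGA4.HeightOneHullFinite B ↔ (hullMod B).FG := by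
  constructor
  · rintro ⟨S, hS, hfin⟩
    have h : Subalgebra.toSubmodule S = hullMod B := SetLike.coe_injective hS
    rw [← h]
    exact Module.Finite.iff_fg.1 hfin
  · intro h
    let S : Subalgebra B (FractionRing B) :=
      { carrier := EGA4.heightOneHull B
        mul_mem' := fun {x y} hx hy p hp h1 => by
          obtain ⟨s, hs, a, ha⟩ := hx p h1
          obtain ⟨t, ht, b, hb⟩ := hy p h1
          refine ⟨s * t, fun h => (hp.mem_or_mem h).elim hs ht, a * b, ?_⟩
          rw [map_mul, map_mul, ha, hb]; ring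
        one_mem' := fun p hp _ => ⟨1, hp.one_notMem, 1, by rw [mul_one]⟩
        zero_mem' := (hullMod B).zero_mem
        add_mem' := fun hx hy => (hullMod B).add_mem hx hy
        algebraMap_mem' := fun r p hp _ => ⟨1, hp.one_notMem, r, by rw [map_one, one_mul]⟩ }
    exact ⟨S, rfl, Module.Finite.iff_fg.2 (show (Subalgebra.toSubmodule S).FG from h)⟩

/-- A prime with a prime strictly between it and `q` has height at least two over `q`. -/
theorem two_le_height_of_between {A : Type u} [CommRing A] {q P y : Ideal A} [q.IsPrime] [P.IsPrime]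
    [y.IsPrime] (h1 : q < P) (h2 : P < y) : (2 : ℕ∞) ≤ (y.map (Ideal.Quotient.mk q)).height := by
  have hP : (P.map (Ideal.Quotient.mk q)).IsPrime :=
    Ideal.map_isPrime_of_surjective Ideal.Quotient.mk_surjective (by rw [Ideal.mk_ker]; exact h1.le)
  have hy : (y.map (Ideal.Quotient.mk q)).IsPrime :=
    Ideal.map_isPrime_of_surjective Ideal.Quotient.mk_surjective (by rw [Ideal.mk_ker]; exact (h1.trans h2).le)
  have hcm : ∀ {J : Ideal A}, q ≤ J → (J.map (Ideal.Quotient.mk q)).comap (Ideal.Quotient.mk q) = J :=
    fun {J} hJ => by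
      rw [Ideal.comap_map_of_surjective _ Ideal.Quotient.mk_surjective, ← RingHom.ker_eq_comap_bot,
        Ideal.mk_ker, sup_eq_left.2 hJ]
  have hb : (⊥ : Ideal (A ⧸ q)) < P.map (Ideal.Quotient.mk q) := by
    refine lt_of_le_of_ne bot_le fun h => h1.ne ?_
    rw [← hcm h1.le, ← h, ← RingHom.ker_eq_comap_bot, Ideal.mk_ker]
  have hlt : P.map (Ideal.Quotient.mk q) < y.map (Ideal.Quotient.mk q) := by
    refine lt_of_le_of_ne (Ideal.map_mono h2.le) fun h => h2.ne ?_
    rw [← hcm h1.le, h, hcm (h1.trans h2).le]
  haveI : (⊥ : Ideal (A ⧸ q)).IsPrime := Ideal.isPrime_bot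
  have e1 := Ideal.height_add_one_le_of_lt_of_isPrime hb
  have e2 := Ideal.height_add_one_le_of_lt_of_isPrime hlt
  rw [Ideal.height_bot, zero_add] at e1
  exact le_trans (by rw [← one_add_one_eq_two]; exact add_le_add_left e1 1) e2

/-- Closures in the residue field are finite when the height one hull is and `Z` has codimension two. -/
theorem closureFinite_of_hull {A : Type u} [CommRing A] [IsNoetherianRing A] {Z : Set (PrimeSpectrum A)}
    (q : Ideal A) [q.IsPrime] (hH : EGA4.HeightOneHullFinite (A ⧸ q))
    (hcodim : ∀ y ∈ Z, q ≤ y.asIdeal → (2 : ℕ∞) ≤ (y.asIdeal.map (Ideal.Quotient.mk q)).height) :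
    ClosureFinite Z q := by
  let e : FractionRing (A ⧸ q) ≃ₐ[A ⧸ q] q.ResidueField := FractionRing.algEquiv (A ⧸ q) q.ResidueField
  have hfg : (hullMod (A ⧸ q)).FG := (heightOneHullFinite_iff _).1 hH
  haveI : Module.Finite (A ⧸ q) (hullMod (A ⧸ q)) := Module.Finite.iff_fg.2 hfg
  haveI : Module.Finite A (hullMod (A ⧸ q)) := Module.Finite.trans (A ⧸ q) _
  have hfgA : ((hullMod (A ⧸ q)).restrictScalars A).FG := Module.Finite.iff_fg.1 ‹_›
  refine fg_of_le (fun c hc => ?_) (hfgA.map (e.toLinearMap.restrictScalars A))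
  refine ⟨e.symm c, fun P hP h1 => ?_, e.apply_symm_apply c⟩
  let p : PrimeSpectrum A := ⟨P.comap (Ideal.Quotient.mk q), Ideal.IsPrime.comap _⟩
  have hp : p ∉ Z := fun hpZ => by
    have h := hcodim p hpZ (fun a ha => by
      show Ideal.Quotient.mk q a ∈ P
      rw [Ideal.Quotient.eq_zero_iff_mem.2 ha]; exact zero_mem _)
    rw [Ideal.map_comap_of_surjective _ Ideal.Quotient.mk_surjective, h1] at h
    exact absurd h (by norm_num)
  obtain ⟨a, ha, b, hb⟩ := hc p hp
  refine ⟨Ideal.Quotient.mk q a, ha, Ideal.Quotient.mk q b, e.injective ?_⟩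
  rw [map_mul, e.commutes, e.commutes, e.apply_symm_apply, ← Ideal.Quotient.algebraMap_eq,
    ← IsScalarTower.algebraMap_apply, ← IsScalarTower.algebraMap_apply, ← Algebra.smul_def]
  exact hb

/-- The hull is invariant under isomorphisms. -/
theorem heightOneHullFinite_of_ringEquiv {B B' : Type u} [CommRing B] [IsDomain B] [CommRing B']
    [IsDomain B'] (σ : B ≃+* B') (h : EGA4.HeightOneHullFinite B) : EGA4.HeightOneHullFinite B' := by
  rw [heightOneHullFinite_iff] at h ⊢
  classical
  let E : FractionRing B ≃+* FractionRing B' := IsFractionRing.ringEquivOfRingEquiv σ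
  have hE : ∀ b, E (algebraMap B _ b) = algebraMap B' _ (σ b) :=
    fun b => IsFractionRing.ringEquivOfRingEquiv_algebraMap σ b
  have hmem : ∀ x, x ∈ hullMod B → E x ∈ hullMod B' := fun x hx P hP h1 => by
    obtain ⟨s, hs, a, ha⟩ := hx (P.comap σ) (by rw [RingEquiv.height_comap σ]; exact h1)
    exact ⟨σ s, hs, σ a, by rw [← hE, ← hE, ha, map_mul]⟩
  have hmem' : ∀ x, x ∈ hullMod B' → E.symm x ∈ hullMod B := fun x hx P hP h1 => by
    obtain ⟨s, hs, a, ha⟩ := hx (P.comap σ.symm) (by rw [RingEquiv.height_comap σ.symm]; exact h1)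
    refine ⟨σ.symm s, hs, σ.symm a, E.injective ?_⟩
    rw [map_mul, hE, hE, E.apply_symm_apply, σ.apply_symm_apply, σ.apply_symm_apply, ha]
  obtain ⟨G, hG⟩ := h
  refine ⟨G.image E, le_antisymm ?_ fun x hx => ?_⟩
  · rw [Submodule.span_le, Finset.coe_image]
    rintro _ ⟨g, hg, rfl⟩
    exact hmem g (hG ▸ Submodule.subset_span hg)
  · have h2 := hmem' x hx
    rw [← hG] at h2
    rw [← E.apply_symm_apply x]
    generalize E.symm x = z at h2
    induction h2 using Submodule.span_induction with
    | mem g hg => exact Submodule.subset_span (Finset.mem_coe.2 (Finset.mem_image_of_mem E hg))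
    | zero => rw [map_zero]; exact zero_mem _
    | add a b _ _ ha hb => rw [map_add]; exact add_mem ha hb
    | smul r a _ ha =>
      rw [Algebra.smul_def, map_mul, hE, ← Algebra.smul_def]
      exact Submodule.smul_mem _ _ ha

/-- Universally catenary N-1 domains have finite height one hull. -/
theorem heightOneHullFinite_of_isN1 (A : Type u) [CommRing A] [IsDomain A] [IsNoetherianRing A]
    (hA : CAlg.IsUniversallyCatenary A) (hint : Module.Finite A (integralClosure A (FractionRing A))) :
    EGA4.HeightOneHullFinite A := by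
  rw [heightOneHullFinite_iff]
  haveI := hint
  haveI : IsNoetherianRing (integralClosure A (FractionRing A)) := IsNoetherianRing.of_finite A _
  haveI : IsFractionRing (integralClosure A (FractionRing A)) (FractionRing A) :=
    integralClosure.isFractionRing_of_finite_extension (FractionRing A) (FractionRing A)
  haveI : IsIntegrallyClosed (integralClosure A (FractionRing A)) :=
    integralClosure.isIntegrallyClosedOfFiniteExtension (FractionRing A)
  haveI : FaithfulSMul A (integralClosure A (FractionRing A)) :=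
    (faithfulSMul_iff_algebraMap_injective _ _).2 fun a b h =>
      IsFractionRing.injective A (FractionRing A) (congrArg Subtype.val h)
  refine fg_of_le (fun x hx => ?_) (Module.Finite.iff_fg.1 hint :
    (Subalgebra.toSubmodule (integralClosure A (FractionRing A))).FG)
  obtain ⟨b, hb⟩ := H1CAlg.mem_range_of_height_le_one (R := integralClosure A (FractionRing A))
    (K := FractionRing A) x fun Q hQ h1 => by
    haveI : Q.LiesOver (Q.comap (algebraMap A (integralClosure A (FractionRing A)))) := ⟨rfl⟩
    haveI : Algebra.IsIntegral A (integralClosure A (FractionRing A)) := Algebra.IsIntegral.of_finite A _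
    have hf := H22Alg.DimFormula.eq_of_isUniversallyCatenary A hA (integralClosure A (FractionRing A))
      (Q.comap (algebraMap A (integralClosure A (FractionRing A)))) Q
    haveI : Algebra.IsAlgebraic (A ⧸ Q.comap (algebraMap A (integralClosure A (FractionRing A))))
        (integralClosure A (FractionRing A) ⧸ Q) := Algebra.IsIntegral.isAlgebraic
    haveI : Algebra.IsAlgebraic A (integralClosure A (FractionRing A)) := Algebra.IsIntegral.isAlgebraic
    rw [trdeg_eq_zero, trdeg_eq_zero, add_zero, add_zero] at hf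
    have hP : (Q.comap (algebraMap A (integralClosure A (FractionRing A)))).height = 1 := by
      rw [← h1]; exact (Cardinal.ofENat_inj.1 hf).symm
    obtain ⟨s, hs, a, ha⟩ := hx _ hP
    refine ⟨algebraMap A _ s, hs, algebraMap A _ a, ?_⟩
    rw [← IsScalarTower.algebraMap_apply, ← IsScalarTower.algebraMap_apply, ha]
  rw [← hb]
  exact b.2

end Groth.Agent.H17.ZFinite
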