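import Groth.Agent.H4Depth.DepthLemmas
import Mathlib

/-!
# Finiteness of closures of finite modules along a set of primes
-/

set_option autoImplicit false
set_option linter.style.haveILetI false
universe u

namespace Groth.Agent.H17.ZFinite

open IsLocalRing

variable {A : Type u} [CommRing A] (Z : Set (PrimeSpectrum A))

/-- Elements carried into `P` by an element outside each prime not in `Z`. -/
def cl {L : Type u} [AddCommGroup L] [Module A L] (P : Submodule A L) : Submodule A L where
  carrier := {l | ∀ p : PrimeSpectrum A, p ∉ Z → ∃ a ∉ p.asIdeal, a • l ∈ P}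
  add_mem' := fun {l l'} hl hl' p hp => by
    obtain ⟨a, ha, hal⟩ := hl p hp
    obtain ⟨b, hb, hbl⟩ := hl' p hp
    refine ⟨a * b, fun h => (p.isPrime.mem_or_mem h).elim ha hb, ?_⟩
    rw [smul_add]
    refine add_mem ?_ ?_
    · rw [mul_comm, mul_smul]; exact P.smul_mem b hal
    · rw [mul_smul]; exact P.smul_mem a hbl
  zero_mem' := fun p _ => ⟨1, p.isPrime.one_notMem, by rw [smul_zero]; exact zero_mem _⟩
  smul_mem' := fun r l hl p hp => by
    obtain ⟨a, ha, hal⟩ := hl p hp
    exact ⟨a, ha, by rw [smul_comm]; exact P.smul_mem r hal⟩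

theorem mem_cl {L : Type u} [AddCommGroup L] [Module A L] {P : Submodule A L} {l : L} :
    l ∈ cl Z P ↔ ∀ p : PrimeSpectrum A, p ∉ Z → ∃ a ∉ p.asIdeal, a • l ∈ P := Iff.rfl

theorem le_cl {L : Type u} [AddCommGroup L] [Module A L] (P : Submodule A L) : P ≤ cl Z P :=
  fun l hl p _ => ⟨1, p.isPrime.one_notMem, by rw [one_smul]; exact hl⟩

theorem cl_mono {L : Type u} [AddCommGroup L] [Module A L] {P Q : Submodule A L} (h : P ≤ Q) :
    cl Z P ≤ cl Z Q := fun l hl p hp => by
  obtain ⟨a, ha, hal⟩ := hl p hp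
  exact ⟨a, ha, h hal⟩

theorem map_cl_le {L L' : Type u} [AddCommGroup L] [Module A L] [AddCommGroup L'] [Module A L']
    (φ : L →ₗ[A] L') (P : Submodule A L) : (cl Z P).map φ ≤ cl Z (P.map φ) := by
  rintro _ ⟨l, hl, rfl⟩ p hp
  obtain ⟨a, ha, hal⟩ := hl p hp
  exact ⟨a, ha, ⟨a • l, hal, map_smul _ _ _⟩⟩

/-- The hypothesis on a prime `q`: the closure of `A/q` in `κ(q)` is finite. -/
def ClosureFinite (q : Ideal A) [q.IsPrime] : Prop :=
  (cl Z (LinearMap.range (Algebra.linearMap A q.ResidueField))).FG

variable {Z} [IsNoetherianRing A]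

theorem fg_of_le {L : Type u} [AddCommGroup L] [Module A L] {P Q : Submodule A L} (h : P ≤ Q)
    (hQ : Q.FG) : P.FG := by
  haveI : IsNoetherian A Q := isNoetherian_of_fg_of_noetherian Q hQ
  have h1 : (P.comap Q.subtype).map Q.subtype = P := by
    rw [Submodule.map_comap_subtype, inf_eq_right.2 h]
  rw [← h1]
  exact (IsNoetherian.noetherian _).map _

omit [IsNoetherianRing A] in
/-- Finitely many elements of `κ(q)` have a common denominator. -/
theorem exists_common_denominator {q : Ideal A} [q.IsPrime] {P : Submodule A q.ResidueField} (hP : P.FG) :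
    ∃ d : q.ResidueField, d ≠ 0 ∧ ∀ x ∈ P, d * x ∈ LinearMap.range (Algebra.linearMap A q.ResidueField) := by
  classical
  obtain ⟨S, rfl⟩ := hP
  obtain ⟨b, hb⟩ := IsLocalization.exist_integer_multiples_of_finset (nonZeroDivisors (A ⧸ q)) S
  refine ⟨algebraMap (A ⧸ q) q.ResidueField b, fun h => nonZeroDivisors.coe_ne_zero b
    ((map_eq_zero_iff _ (IsFractionRing.injective (A ⧸ q) q.ResidueField)).1 h), fun x hx => ?_⟩
  induction hx using Submodule.span_induction with
  | mem x hx =>
    obtain ⟨c, hc⟩ := hb x hx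
    obtain ⟨c, rfl⟩ := Ideal.Quotient.mk_surjective c
    refine ⟨c, ?_⟩
    rw [← Algebra.smul_def]
    exact (IsScalarTower.algebraMap_apply A (A ⧸ q) q.ResidueField c).trans hc
  | zero => rw [mul_zero]; exact zero_mem _
  | add x y _ _ hx hy => rw [mul_add]; exact add_mem hx hy
  | smul r x _ hx => rw [mul_smul_comm]; exact Submodule.smul_mem _ r hx

theorem fg_cl_residueField {q : Ideal A} [q.IsPrime] (hH : ClosureFinite Z q)
    {P : Submodule A q.ResidueField} (hP : P.FG) : (cl Z P).FG := by
  obtain ⟨d, hd, hdP⟩ := exists_common_denominator hP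
  let φ : q.ResidueField →ₗ[A] q.ResidueField :=
    (LinearMap.mulLeft q.ResidueField d⁻¹).restrictScalars A
  refine fg_of_le (fun c hc => ?_) (Submodule.FG.map φ hH)
  refine ⟨d * c, fun p hp => ?_, show d⁻¹ * (d * c) = c by rw [← mul_assoc, inv_mul_cancel₀ hd, one_mul]⟩
  obtain ⟨a, ha, hac⟩ := hc p hp
  exact ⟨a, ha, by rw [← mul_smul_comm]; exact hdP _ hac⟩

variable {q : Ideal A} [q.IsPrime]
variable {L : Type u} [AddCommGroup L] [Module A L] [Module (Localization.AtPrime q) L]
  [IsScalarTower A (Localization.AtPrime q) L] [Module.Finite (Localization.AtPrime q) L]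

/-- The part of the closure killed by the maximal ideal. -/
theorem fg_cl_inf_torsion (hH : ClosureFinite Z q) {P : Submodule A L} (hP : P.FG) :
    (cl Z P ⊓ (Submodule.torsionBySet (Localization.AtPrime q) L
      (maximalIdeal (Localization.AtPrime q) : Set (Localization.AtPrime q))).restrictScalars A).FG := by
  classical
  let V := Submodule.torsionBySet (Localization.AtPrime q) L
    (maximalIdeal (Localization.AtPrime q) : Set (Localization.AtPrime q))
  haveI : Module.Finite (Localization.AtPrime q) V := Module.Finite.iff_fg.2 (IsNoetherian.noetherian V)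
  letI : Module q.ResidueField V :=
    (inferInstance : Module (Localization.AtPrime q ⧸ maximalIdeal (Localization.AtPrime q)) V)
  haveI : IsScalarTower (Localization.AtPrime q) q.ResidueField V :=
    (inferInstance : IsScalarTower (Localization.AtPrime q)
      (Localization.AtPrime q ⧸ maximalIdeal (Localization.AtPrime q)) V)
  haveI : Module.Finite q.ResidueField V :=
    Module.Finite.of_restrictScalars_finite (Localization.AtPrime q) _ _
  haveI : IsScalarTower A q.ResidueField V := .of_algebraMap_smul fun r v => by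
    rw [IsScalarTower.algebraMap_apply A (Localization.AtPrime q) q.ResidueField, algebraMap_smul,
      algebraMap_smul]
  let φ : V →ₗ[A] (Fin (Module.finrank q.ResidueField V) → q.ResidueField) :=
    (Module.finBasis q.ResidueField V).equivFun.toLinearMap.restrictScalars A
  let ι : V →ₗ[A] L := V.subtype.restrictScalars A
  let P₁ : Submodule A V := P.comap ι
  have hP₁ : P₁.FG := by
    refine Submodule.fg_of_fg_map_injective ι Subtype.val_injective (fg_of_le ?_ hP)
    exact Submodule.map_comap_le _ _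
  let Q : Submodule A (Fin (Module.finrank q.ResidueField V) → q.ResidueField) :=
    Submodule.pi Set.univ fun i => cl Z ((P₁.map φ).map (LinearMap.proj i))
  have hQ : Q.FG := Submodule.fg_pi fun i => fg_cl_residueField hH ((hP₁.map _).map _)
  have hW : (cl Z P₁).FG := by
    refine Submodule.fg_of_fg_map_injective φ (Module.finBasis q.ResidueField V).equivFun.injective
      (fg_of_le ?_ hQ)
    rintro _ ⟨v, hv, rfl⟩ i -
    exact map_cl_le Z (LinearMap.proj i) _ ⟨φ v, map_cl_le Z φ _ ⟨v, hv, rfl⟩, rfl⟩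
  refine fg_of_le (fun l hl => ?_) (hW.map ι)
  refine ⟨⟨l, hl.2⟩, fun p hp => ?_, rfl⟩
  obtain ⟨a, ha, hal⟩ := hl.1 p hp
  exact ⟨a, ha, hal⟩

theorem fg_cl_inf_pow_torsion (hH : ClosureFinite Z q) (k : ℕ) :
    ∀ {P : Submodule A L}, P.FG →
      (cl Z P ⊓ (Submodule.torsionBySet (Localization.AtPrime q) L
        ((maximalIdeal (Localization.AtPrime q)) ^ k : Ideal (Localization.AtPrime q))).restrictScalars A).FG := by
  classical
  induction k with
  | zero =>
    intro P _
    refine fg_of_le (fun l hl => ?_) Submodule.fg_bot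
    have h := (Submodule.mem_torsionBySet_iff _ _).1 hl.2 ⟨1, by simp⟩
    exact (Submodule.mem_bot A).2 ((one_smul _ l).symm.trans h)
  | succ k ih =>
    intro P hP
    obtain ⟨G, hG⟩ := IsNoetherian.noetherian q
    let φ : L →ₗ[A] (G → L) := LinearMap.pi fun r => LinearMap.lsmul A L r.1
    let C := cl Z P ⊓ (Submodule.torsionBySet (Localization.AtPrime q) L
      ((maximalIdeal (Localization.AtPrime q)) ^ (k + 1) : Ideal (Localization.AtPrime q))).restrictScalars A
    refine Submodule.fg_of_fg_map_of_fg_inf_ker φ ?_ ?_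
    · refine fg_of_le ?_ (Submodule.fg_pi (M := fun _ : G => L) fun r => ih (hP.map (LinearMap.lsmul A L r.1)))
      rintro _ ⟨l, hl, rfl⟩ r -
      refine ⟨map_cl_le Z _ _ ⟨l, hl.1, rfl⟩, ?_⟩
      rw [SetLike.mem_coe, Submodule.restrictScalars_mem, Submodule.mem_torsionBySet_iff]
      rintro ⟨a, ha⟩
      have hr : algebraMap A (Localization.AtPrime q) r.1 ∈ maximalIdeal (Localization.AtPrime q) :=
        (IsLocalization.AtPrime.to_map_mem_maximal_iff _ q r.1).2 (hG ▸ Submodule.subset_span r.2)
      have h := (Submodule.mem_torsionBySet_iff _ _).1 hl.2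
        ⟨a * algebraMap A (Localization.AtPrime q) r.1, by rw [pow_succ]; exact Ideal.mul_mem_mul ha hr⟩
      rw [← h]
      show a • r.1 • l = (a * algebraMap A (Localization.AtPrime q) r.1) • l
      rw [mul_smul, algebraMap_smul]
    · refine fg_of_le ?_ (fg_cl_inf_torsion hH hP)
      rintro l ⟨hl, hker⟩
      refine ⟨hl.1, ?_⟩
      rw [SetLike.mem_coe, Submodule.restrictScalars_mem, Submodule.mem_torsionBySet_iff]
      have hmap : Ideal.map (algebraMap A (Localization.AtPrime q)) q =
          Ideal.span (algebraMap A (Localization.AtPrime q) '' G) :=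
        (congrArg (Ideal.map (algebraMap A (Localization.AtPrime q))) hG).symm.trans (Ideal.map_span _ _)
      rintro ⟨a, ha⟩
      have ha' : a ∈ Ideal.span (algebraMap A (Localization.AtPrime q) '' G) :=
        hmap ▸ (Localization.AtPrime.map_eq_maximalIdeal).ge ha
      show a • l = 0
      clear ha
      induction ha' using Submodule.span_induction with
      | mem x hx =>
        obtain ⟨r, hr, rfl⟩ := hx
        rw [algebraMap_smul]
        exact congrFun hker ⟨r, hr⟩
      | zero => rw [zero_smul]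
      | add x y _ _ hx hy => rw [add_smul, hx, hy, add_zero]
      | smul c x _ hx => rw [smul_eq_mul, mul_smul, hx, smul_zero]

/-- Over a module killed by a power of the maximal ideal, closures of finite submodules are finite. -/
theorem fg_cl_of_pow_smul (hH : ClosureFinite Z q) {k : ℕ}
    (hk : ∀ a ∈ (maximalIdeal (Localization.AtPrime q)) ^ k, ∀ l : L, a • l = 0) {P : Submodule A L}
    (hP : P.FG) : (cl Z P).FG :=
  fg_of_le (P := cl Z P) (fun l hl => Submodule.mem_inf.2 ⟨hl, by
    rw [Submodule.restrictScalars_mem, Submodule.mem_torsionBySet_iff]; exact fun a => hk a.1 a.2 l⟩)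
    (fg_cl_inf_pow_torsion hH k hP)

/-- A module between a finite module and its closures at the associated primes is finite. -/
theorem finite_of_closure {M N : Type u} [AddCommGroup M] [Module A M] [Module.Finite A M]
    [AddCommGroup N] [Module A N] (f : M →ₗ[A] N)
    (hcoker : ∀ n, ∀ p : PrimeSpectrum A, p ∉ Z → ∃ a ∉ p.asIdeal, a • n ∈ LinearMap.range f)
    {ι : Type u} [Finite ι] (Q : ι → PrimeSpectrum A) (hQ : ∀ i, ClosureFinite Z (Q i).asIdeal)
    (ψ : ∀ i, N →ₗ[A] LocalizedModule (Q i).asIdeal.primeCompl M)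
    (hjoint : ∀ n : N, n ≠ 0 → ∃ i, ψ i n ≠ 0 ∧ ∀ a ∈ maximalIdeal (Localization.AtPrime (Q i).asIdeal),
      ∃ j : ℕ, a ^ j • ψ i n = 0) :
    Module.Finite A N := by
  classical
  have key : ∀ i, ∃ (k : ℕ), ∀ l : LocalizedModule (Q i).asIdeal.primeCompl M,
      (∀ a ∈ maximalIdeal (Localization.AtPrime (Q i).asIdeal), ∃ j : ℕ, a ^ j • l = 0) →
      l ∈ (maximalIdeal (Localization.AtPrime (Q i).asIdeal)) ^ k •
        (⊤ : Submodule (Localization.AtPrime (Q i).asIdeal) (LocalizedModule (Q i).asIdeal.primeCompl M)) →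
      l = 0 := by
    intro i
    haveI : Module.Finite (Localization.AtPrime (Q i).asIdeal) (LocalizedModule (Q i).asIdeal.primeCompl M) :=
      Module.Finite.of_isLocalizedModule (Q i).asIdeal.primeCompl (LocalizedModule.mkLinearMap _ _)
    let R := Localization.AtPrime (Q i).asIdeal
    let m : Ideal R := maximalIdeal R
    let T : Submodule R (LocalizedModule (Q i).asIdeal.primeCompl M) :=
      { carrier := {l | ∀ a ∈ m, ∃ j : ℕ, a ^ j • l = 0}
        zero_mem' := fun a _ => ⟨0, smul_zero _⟩
        add_mem' := fun {l l'} hl hl' a ha => by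
          obtain ⟨j, hj⟩ := hl a ha
          obtain ⟨j', hj'⟩ := hl' a ha
          exact ⟨j + j', by rw [smul_add, pow_add, mul_smul, mul_smul, hj', smul_zero, add_zero,
            smul_comm, hj, smul_zero]⟩
        smul_mem' := fun r l hl a ha => by
          obtain ⟨j, hj⟩ := hl a ha
          exact ⟨j, by rw [smul_comm, hj, smul_zero]⟩ }
    obtain ⟨k₀, hk₀⟩ := m.exists_pow_inf_eq_pow_smul T
    haveI : Module.Finite R T := Module.Finite.iff_fg.2 (IsNoetherian.noetherian T)
    obtain ⟨S, hS⟩ := (Module.Finite.iff_fg.1 ‹Module.Finite R T›)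
    -- `m` is finitely generated, so a power of it kills `T`
    have hkill : m ≤ (Submodule.annihilator T).radical := by
      intro a ha
      have : ∀ s ∈ S, ∃ j : ℕ, a ^ j • s = 0 := fun s hs => (hS ▸ Submodule.subset_span hs : s ∈ T) a ha
      choose j hj using this
      refine ⟨∑ s : S, j s.1 s.2, Submodule.mem_annihilator.2 fun t ht => ?_⟩
      rw [← hS] at ht
      induction ht using Submodule.span_induction with
      | mem s hs =>
        rw [← Finset.add_sum_erase Finset.univ _ (Finset.mem_univ (⟨s, hs⟩ : S)), add_comm, pow_add,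
          mul_smul, hj s hs, smul_zero]
      | zero => rw [smul_zero]
      | add x y _ _ hx hy => rw [smul_add, hx, hy, add_zero]
      | smul c x _ hx => rw [smul_comm, hx, smul_zero]
    obtain ⟨e, he⟩ := Ideal.exists_pow_le_of_le_radical_of_fg hkill (IsNoetherian.noetherian m)
    refine ⟨k₀ + e, fun l hl hlk => ?_⟩
    have h1 : l ∈ m ^ (k₀ + e) • (⊤ : Submodule R (LocalizedModule (Q i).asIdeal.primeCompl M)) ⊓ T := ⟨hlk, hl⟩
    rw [hk₀ (k₀ + e) (Nat.le_add_right _ _), Nat.add_sub_cancel_left] at h1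
    have h2 : m ^ e • (m ^ k₀ • (⊤ : Submodule R (LocalizedModule (Q i).asIdeal.primeCompl M)) ⊓ T) ≤ ⊥ := by
      refine Submodule.smul_le.2 fun a ha t ht => (Submodule.mem_bot R).2 ?_
      exact Submodule.mem_annihilator.1 (he ha) t ht.2
    exact (Submodule.mem_bot R).1 (h2 h1)
  choose k hk using key
  -- the components
  let I : ∀ i, Submodule (Localization.AtPrime (Q i).asIdeal) (LocalizedModule (Q i).asIdeal.primeCompl M) :=
    fun i => (maximalIdeal (Localization.AtPrime (Q i).asIdeal)) ^ k i • ⊤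
  let π : ∀ i, N →ₗ[A] (LocalizedModule (Q i).asIdeal.primeCompl M) ⧸ I i :=
    fun i => ((I i).mkQ.restrictScalars A) ∘ₗ ψ i
  have hπ : ∀ i, (LinearMap.range (π i)).FG := fun i => by
    haveI : Module.Finite (Localization.AtPrime (Q i).asIdeal) (LocalizedModule (Q i).asIdeal.primeCompl M) :=
      Module.Finite.of_isLocalizedModule (Q i).asIdeal.primeCompl (LocalizedModule.mkLinearMap _ _)
    have hP : (LinearMap.range (π i ∘ₗ f)).FG := by
      rw [LinearMap.range_eq_map]; exact (Module.Finite.fg_top).map _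
    refine fg_of_le ?_ (fg_cl_of_pow_smul (hQ i) (k := k i) (fun a ha l => ?_) hP)
    · rintro _ ⟨n, rfl⟩ p hp
      obtain ⟨a, ha, m, hm⟩ := hcoker n p hp
      exact ⟨a, ha, m, by rw [LinearMap.comp_apply, hm, map_smul]⟩
    · obtain ⟨l, rfl⟩ := Submodule.Quotient.mk_surjective _ l
      rw [← Submodule.Quotient.mk_smul, Submodule.Quotient.mk_eq_zero]
      exact Submodule.smul_mem_smul ha trivial
  let Φ : N →ₗ[A] (∀ i, (LocalizedModule (Q i).asIdeal.primeCompl M) ⧸ I i) := LinearMap.pi π
  have hinj : Function.Injective Φ := (injective_iff_map_eq_zero Φ).2 fun n hn => by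
    by_contra hne
    obtain ⟨i, hi, htor⟩ := hjoint n hne
    exact hi (hk i _ htor ((Submodule.Quotient.mk_eq_zero _).1 (congrFun hn i)))
  refine ⟨Submodule.fg_of_fg_map_injective Φ hinj (fg_of_le ?_ (Submodule.fg_pi hπ))⟩
  rintro _ ⟨n, -, rfl⟩ i -
  exact ⟨n, rfl⟩

end Groth.Agent.H17.ZFinite
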