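import Groth.Agent.H17.ZFinite.Sections
import Groth.Agent.H17.ZFinite.Hull

/-!
# Coherent direct images force codimension two
-/

set_option autoImplicit false
set_option linter.style.haveILetI false
set_option maxHeartbeats 400000
universe u

open CategoryTheory CategoryTheory.Limits AlgebraicGeometry TopologicalSpace Opposite

namespace Groth.Agent.H17.ZFinite

open Groth.Agent.H26ZClos Groth.Agent.H17.AssPts Groth.Agent.H17.ZDepth IsLocalRing

variable {X : Scheme.{u}}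

/-- Regularity on a stalk from the associated generizations. -/
theorem isSMulRegular_germ_of_ass (G : X.Modules) (hG : Coh.IsQCoh G) {V : X.Opens} (hV : IsAffineOpen V)
    {y : X} (hy : y ∈ V) (a : Γ(X, V))
    (h : ∀ (w : X) (_ : w ∈ V), w ∈ AssSch.Ass G → w ⤳ y → w ∈ X.basicOpen a) :
    IsSMulRegular (G.presheaf.stalk y) (X.presheaf.germ V y hy a) := by
  refine ZDepth.isSMulRegular_of _ fun e he => ?_
  obtain ⟨t, s, ht, hts⟩ := exists_smul_germ_eq G hG hV hy e
  by_contra he0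
  have hs : G.presheaf.germ V y hy s ≠ 0 := fun h0 =>
    he0 (((isUnit_germ_iff hy t).2 ht).smul_eq_zero.1 (hts.trans h0))
  obtain ⟨w, hwV, hw, hwy, hsw⟩ := exists_ass_specializes_of_germ G hG hV hy hs
  have h1 : G.presheaf.germ V y hy (a • s) = 0 := by rw [germ_smul', ← hts, smul_comm, he, smul_zero]
  have h2 := congrArg (G.presheaf.stalkSpecializes hwy) h1
  rw [germ_spec_mod, map_zero, germ_smul'] at h2
  exact hsw (((isUnit_germ_iff hwV a).2 (h w hwV hw hwy)).smul_eq_zero.1 h2)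

/-- A section with annihilator exactly the prime of an associated point near it. -/
theorem exists_exact_witness [IsLocallyNoetherian X] (F : X.Modules) (hF : Coh.IsQCoh F) {V : X.Opens}
    (hV : IsAffineOpen V) {z : X} (hzV : z ∈ V) (hz : z ∈ AssSch.Ass F) :
    ∃ s : Γ(F, V), F.presheaf.germ V z hzV s ≠ 0 ∧
      ∀ r ∈ (hV.primeIdealOf ⟨z, hzV⟩).asIdeal, r • s = 0 := by
  classical
  haveI : IsNoetherianRing Γ(X, V) := IsLocallyNoetherian.component_noetherian ⟨V, hV⟩
  obtain ⟨-, m, hm⟩ := isAssociatedPrime_iff.1 hz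
  have hm0 : m ≠ 0 := fun h0 => by
    subst h0
    exact (maximalIdeal.isMaximal (X.presheaf.stalk z)).ne_top
      (hm.trans (by ext; simp [Submodule.mem_colon_singleton]))
  obtain ⟨t, s₀, ht, hts⟩ := exists_smul_germ_eq F hF hV hzV m
  obtain ⟨G, hG⟩ := IsNoetherian.noetherian (hV.primeIdealOf ⟨z, hzV⟩).asIdeal
  have hk : ∀ r : G, ∃ u : Γ(X, V), z ∈ X.basicOpen u ∧ u • r.1 • s₀ = 0 := by
    intro r
    have hmem := (germ_mem_maximal_iff hV hzV r.1).2 (hG ▸ Submodule.subset_span r.2)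
    rw [hm, Submodule.mem_colon_singleton, Submodule.mem_bot] at hmem
    exact exists_smul_eq_zero_of_germ F hF hV hzV (s := r.1 • s₀)
      (by rw [germ_smul', ← hts, smul_comm, hmem, smul_zero])
  choose u hu hus using hk
  have hU : IsUnit (X.presheaf.germ V z hzV (∏ r : G, u r)) := by
    rw [map_prod]; exact IsUnit.prod_iff.2 fun r _ => (isUnit_germ_iff hzV _).2 (hu r)
  refine ⟨(∏ r : G, u r) • s₀, ?_, ?_⟩
  · rw [germ_smul', ← hts]
    exact fun h => hm0 (((isUnit_germ_iff hzV t).2 ht).smul_eq_zero.1 (hU.smul_eq_zero.1 h))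
  · have hle : (hV.primeIdealOf ⟨z, hzV⟩).asIdeal ≤
        LinearMap.ker (LinearMap.toSpanSingleton Γ(X, V) Γ(F, V) ((∏ r : G, u r) • s₀)) := by
      rw [← hG, Submodule.span_le]
      intro r hr
      rw [SetLike.mem_coe, LinearMap.mem_ker, LinearMap.toSpanSingleton_apply,
        ← Finset.mul_prod_erase Finset.univ u (Finset.mem_univ ⟨r, hr⟩), mul_comm _ (Finset.prod _ _),
        smul_comm r, mul_smul, hus ⟨r, hr⟩, smul_zero]
    intro r hr
    simpa using hle hr

theorem isIso_toDiagram_resPush {Z : Set X} (F : X.Modules) (T : ZClos.Cl Z) :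
    IsIso (ZClos.toDiagram Z ((ZClos.resPush T.U).obj F) T) :=
  ZClos.isIso_unit_resPush le_rfl F

/-- If direct images off a closed subset are coherent, no associated point outside `Z` has a
specialization in that subset in codimension one. -/
theorem exists_between_of_isCoh_resPush [IsLocallyNoetherian X] {Z : Set X} {F : X.Modules}
    (hF : Coh.IsCoh F) (hass : ∀ x ∈ AssSch.Ass F, x ∉ Z) (T : ZClos.Cl Z)
    (hd : Coh.IsCoh ((ZClos.resPush T.U).obj F)) {V : X.Opens} (hV : IsAffineOpen V)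
    {x : X} (hxV : x ∈ V) (hx : x ∈ AssSch.Ass F) {y : X} (hyV : y ∈ V) (hxy : x ⤳ y)
    (hyT : y ∈ (T.1 : Set X)) :
    ∃ P : Ideal Γ(X, V), P.IsPrime ∧ (hV.primeIdealOf ⟨x, hxV⟩).asIdeal < P ∧
      P < (hV.primeIdealOf ⟨y, hyV⟩).asIdeal := by
  classical
  by_contra hno
  haveI : IsNoetherianRing Γ(X, V) := IsLocallyNoetherian.component_noetherian ⟨V, hV⟩
  haveI : Module.Finite Γ(X, V) Γ(F, V) := @H10Coh.finite_sections _ F hF.1 hF.2 _ hV
  haveI : Module.Finite Γ(X, V) Γ((ZClos.resPush T.U).obj F, V) :=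
    @H10Coh.finite_sections _ _ hd.1 hd.2 _ hV
  let q := (hV.primeIdealOf ⟨x, hxV⟩).asIdeal
  let py := (hV.primeIdealOf ⟨y, hyV⟩).asIdeal
  have hqy : q ≤ py := (H29Blow.primeIdealOf_le_iff hV ⟨x, hxV⟩ ⟨y, hyV⟩).2 hxy
  -- the ideal of `T`
  let I : Ideal Γ(X, V) := PrimeSpectrum.vanishingIdeal (hV.fromSpec ⁻¹' (T.1 : Set X))
  have hI : ∀ w : V, I ≤ (hV.primeIdealOf w).asIdeal ↔ w.1 ∈ (T.1 : Set X) := by
    intro w
    have hcl : IsClosed (hV.fromSpec ⁻¹' (T.1 : Set X)) := T.1.2.preimage hV.fromSpec.continuous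
    have h := (PrimeSpectrum.zeroLocus_vanishingIdeal_eq_closure (hV.fromSpec ⁻¹' (T.1 : Set X))).trans
      hcl.closure_eq
    have h2 : hV.primeIdealOf w ∈ PrimeSpectrum.zeroLocus (I : Set Γ(X, V)) ↔
        hV.primeIdealOf w ∈ hV.fromSpec ⁻¹' (T.1 : Set X) := iff_of_eq (congrArg (fun S => hV.primeIdealOf w ∈ S) h)
    have h3 : hV.fromSpec (hV.primeIdealOf w) ∈ (T.1 : Set X) ↔ w.1 ∈ (T.1 : Set X) :=
      iff_of_eq (congrArg (fun z => z ∈ (T.1 : Set X)) (hV.fromSpec_primeIdealOf w))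
    exact ((PrimeSpectrum.mem_zeroLocus _ _).symm.trans h2).trans h3
  -- an element of `I` outside the associated primes
  obtain ⟨a, haI, haAss⟩ : ∃ a ∈ I, ∀ w (hw : w ∈ V), w ∈ AssSch.Ass F → w ∈ X.basicOpen a := by
    let S : Finset (Ideal Γ(X, V)) := ((associatedPrimes.finite Γ(X, V) Γ(F, V)).toFinset).filter
      fun P => ∃ w : V, w.1 ∈ AssSch.Ass F ∧ P = (hV.primeIdealOf w).asIdeal
    have hns : ¬ ((I : Set Γ(X, V)) ⊆ ⋃ P ∈ (↑S : Set (Ideal Γ(X, V))), (P : Set Γ(X, V))) := by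
      rw [Ideal.subset_union_prime (⊥ : Ideal Γ(X, V)) ⊥ (f := fun P => P) (fun P hP _ _ => by
        obtain ⟨-, w, -, rfl⟩ := Finset.mem_filter.1 hP
        exact (hV.primeIdealOf w).isPrime)]
      rintro ⟨P, hP, hle⟩
      obtain ⟨-, w, hw, rfl⟩ := Finset.mem_filter.1 hP
      exact hass w.1 hw (T.2 ((hI w).1 hle))
    obtain ⟨a, haI, ha⟩ := Set.not_subset.1 hns
    refine ⟨a, haI, fun w hw hwA => ?_⟩
    by_contra hc
    refine ha (Set.mem_biUnion (x := (hV.primeIdealOf ⟨w, hw⟩).asIdeal) ?_ ((mem_primeIdealOf hV hw a).2 hc))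
    exact Finset.mem_filter.2 ⟨(Set.Finite.mem_toFinset _).2 (prime_mem_associatedPrimes hF.1 hV hw hwA),
      ⟨w, hw⟩, hwA, rfl⟩
  have hay : a ∈ py := (hI ⟨y, hyV⟩).2 hyT haI
  have haq : a ∉ q := fun h => (mem_primeIdealOf hV hxV a).1 h (haAss x hxV hx)
  have hqy' : q ≠ py := fun h => haq (h ▸ hay)
  have hnP : ∀ P : Ideal Γ(X, V), P.IsPrime → q ≤ P → P ≤ py → P = q ∨ P = py := fun P hP h1 h2 => by
    by_contra hc
    push_neg at hc
    exact hno ⟨P, hP, lt_of_le_of_ne h1 (Ne.symm hc.1), lt_of_le_of_ne h2 hc.2⟩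
  -- near `y`, powers of `I` lie in `(a ^ k) + q`
  obtain ⟨G, hG⟩ := IsNoetherian.noetherian I
  have hpow : ∀ k : ℕ, ∃ u, u ∉ py ∧ ∀ r : G, ∃ j : ℕ, u * r.1 ^ j ∈ Ideal.span {a ^ k} ⊔ q := by
    intro k
    have h1 : ∀ r : G, ∃ u, u ∉ py ∧ ∃ j : ℕ, u * r.1 ^ j ∈ Ideal.span {a ^ k} ⊔ q := by
      intro r
      by_contra hc
      push_neg at hc
      haveI : py.IsPrime := (hV.primeIdealOf ⟨y, hyV⟩).isPrime
      obtain ⟨P, hP, hCP, hPS⟩ := Ideal.exists_le_prime_disjoint (Ideal.span {a ^ k} ⊔ q)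
        (py.primeCompl ⊔ Submonoid.powers r.1) (by
          rw [Set.disjoint_left]
          intro w hwJ hwS
          obtain ⟨u, hu, v, ⟨j, rfl⟩, rfl⟩ := Submonoid.mem_sup.mp hwS
          exact hc u hu j hwJ)
      have hPy : P ≤ py := fun w hw => by
        by_contra hwp
        exact Set.disjoint_left.mp hPS hw (Submonoid.mem_sup_left hwp)
      rcases hnP P hP (le_sup_right.trans hCP) hPy with h | h
      · exact haq (h ▸ hP.mem_of_pow_mem k (hCP (Ideal.mem_sup_left (Ideal.mem_span_singleton_self _))))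
      · refine Set.disjoint_left.mp hPS ?_ (Submonoid.mem_sup_right (Submonoid.mem_powers r.1))
        show r.1 ∈ P
        rw [h]
        exact (hI ⟨y, hyV⟩).2 hyT (hG.le (Submodule.subset_span r.2))
    choose u hu j hj using h1
    refine ⟨∏ r : G, u r, fun h => ?_, fun r => ⟨j r, ?_⟩⟩
    · obtain ⟨r, -, hr⟩ := Ideal.IsPrime.prod_mem_iff.1 h
      exact hu r hr
    · rw [← Finset.mul_prod_erase Finset.univ u (Finset.mem_univ r), mul_comm (u r), mul_assoc]
      exact Ideal.mul_mem_left _ _ (hj r)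
  obtain ⟨s, hs, hqs⟩ := exists_exact_witness F hF.1 hV hxV hx
  have hTU : ∀ {w : X}, w ∈ T.U ↔ w ∉ (T.1 : Set X) := Iff.rfl
  have hxT : x ∈ T.U := hTU.2 fun h => hass x hx (T.2 h)
  let G' : X.Modules := (ZClos.resPush T.U).obj F
  let Φ : F ⟶ G' := ZClos.toDiagram Z F T
  have hΦ : ∀ {w : X}, w ∈ T.U → Function.Bijective (RefHull.stalkMapₗ Φ w) := fun hw =>
    stalk_toDiagram_bijective F T hw
  -- the sections `u_k s / a ^ k`
  have hn : ∀ k : ℕ, ∃ (u : Γ(X, V)) (n : Γ(G', V)), u ∉ py ∧ a ^ k • n = Φ.app V (u • s) := by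
    intro k
    obtain ⟨u, hu, hur⟩ := hpow k
    let W : X.Opens := V ⊓ T.U
    obtain ⟨e, he⟩ := exists_div G' (W := W) (X.presheaf.map (homOfLE (inf_le_left : W ≤ V)).op (a ^ k))
      (G'.presheaf.map (homOfLE (inf_le_left : W ≤ V)).op (Φ.app V (u • s)))
      (fun w hw => by
        rw [TopCat.Presheaf.germ_res_apply]
        have hreg : IsSMulRegular (F.presheaf.stalk w) (X.presheaf.germ V w hw.1 (a ^ k)) :=
          isSMulRegular_germ_of_ass F hF.1 hV hw.1 _ fun w' hw' hA _ => by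
            rw [← isUnit_germ_iff hw', map_pow]
            exact ((isUnit_germ_iff hw' a).2 (haAss w' hw' hA)).pow k
        refine ZDepth.isSMulRegular_of _ fun e he => ?_
        obtain ⟨e', rfl⟩ := (hΦ hw.2).2 e
        rw [← map_smul] at he
        rw [hreg.right_eq_zero_of_smul ((hΦ hw.2).1 (he.trans (map_zero _).symm)), map_zero])
      (fun w hw => by
        have hnot : ¬ I ≤ (hV.primeIdealOf ⟨w, hw.1⟩).asIdeal := fun h => hTU.1 hw.2 ((hI _).1 h)
        rw [← hG, Submodule.span_le] at hnot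
        obtain ⟨r, hrG, hr⟩ := Set.not_subset.1 hnot
        obtain ⟨j, hj⟩ := hur ⟨r, hrG⟩
        obtain ⟨c, hc, d, hdq, hcd⟩ := Submodule.mem_sup.1 hj
        obtain ⟨b, rfl⟩ := Ideal.mem_span_singleton'.1 hc
        have hru : IsUnit (X.presheaf.germ V w hw.1 (r ^ j)) := by
          rw [map_pow]
          exact ((isUnit_germ_iff hw.1 r).2 (by
            by_contra hh; exact hr ((mem_primeIdealOf hV hw.1 r).2 hh))).pow j
        obtain ⟨v, hv⟩ := hru.exists_left_inv
        refine ⟨v • G'.presheaf.germ V w hw.1 (Φ.app V (b • s)), ?_⟩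
        have h1 : (r ^ j) • (u • s) = a ^ k • (b • s) := by
          rw [smul_smul, smul_smul, mul_comm (r ^ j), ← hcd, add_smul, hqs d hdq, add_zero, mul_comm b]
        rw [TopCat.Presheaf.germ_res_apply, TopCat.Presheaf.germ_res_apply, smul_comm, ← germ_smul',
          ← Scheme.Modules.Hom.app_smul, ← h1, Scheme.Modules.Hom.app_smul, germ_smul', smul_smul, hv,
          one_smul])
    obtain ⟨n, hn⟩ := ((isIso_toDiagram_iff Z G' T).1 (isIso_toDiagram_resPush F T) V).2 e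
    refine ⟨u, n, hu, ?_⟩
    refine ((isIso_toDiagram_iff Z G' T).1 (isIso_toDiagram_resPush F T) V).1 ?_
    show G'.presheaf.map (homOfLE (inf_le_left : W ≤ V)).op (a ^ k • n) =
      G'.presheaf.map (homOfLE (inf_le_left : W ≤ V)).op (Φ.app V (u • s))
    rw [Scheme.Modules.map_smul,
      show G'.presheaf.map (homOfLE (inf_le_left : W ≤ V)).op n = e from hn]
    exact he
  choose u n hu hn using hn
  haveI : IsNoetherian Γ(X, V) Γ(G', V) := isNoetherian_of_isNoetherianRing_of_finite _ _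
  obtain ⟨K, hK⟩ := (monotone_stabilizes_iff_noetherian (R := Γ(X, V)) (M := Γ(G', V))).2 ‹_›
    ⟨fun k => Submodule.span Γ(X, V) (n '' Set.Iic k),
      fun i j hij => Submodule.span_mono (Set.image_mono (Set.Iic_subset_Iic.2 hij))⟩
  have hmem : n (K + 1) ∈ Submodule.span Γ(X, V) (n '' Set.Iic K) := by
    have h2 : Submodule.span Γ(X, V) (n '' Set.Iic K) = Submodule.span Γ(X, V) (n '' Set.Iic (K + 1)) :=
      hK (K + 1) (Nat.le_succ K)
    rw [h2]
    exact Submodule.subset_span ⟨K + 1, Set.self_mem_Iic, rfl⟩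
  have hR : ∀ m ∈ Submodule.span Γ(X, V) (n '' Set.Iic K), ∃ c : Γ(X, V), a ^ K • m = Φ.app V (c • s) := by
    intro m hm
    induction hm using Submodule.span_induction with
    | mem m hm =>
      obtain ⟨i, hi, rfl⟩ := hm
      refine ⟨a ^ (K - i) * u i, ?_⟩
      rw [show a ^ K = a ^ (K - i) * a ^ i by rw [← pow_add, Nat.sub_add_cancel hi], mul_smul, hn,
        ← Scheme.Modules.Hom.app_smul, smul_smul]
    | zero => exact ⟨0, by rw [smul_zero, zero_smul, map_zero]⟩
    | add p p' _ _ hp hp' =>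
      obtain ⟨c, hc⟩ := hp
      obtain ⟨c', hc'⟩ := hp'
      exact ⟨c + c', by rw [smul_add, hc, hc', add_smul, map_add]⟩
    | smul r p _ hp =>
      obtain ⟨c, hc⟩ := hp
      exact ⟨r * c, by rw [smul_comm, hc, ← Scheme.Modules.Hom.app_smul, mul_smul]⟩
  obtain ⟨c, hc⟩ := hR _ hmem
  have h1 : Φ.app V (u (K + 1) • s) = Φ.app V ((a * c) • s) := by
    rw [← hn (K + 1), pow_succ', mul_smul, hc, mul_smul a c, Scheme.Modules.Hom.app_smul Φ a]
  have h2 := congrArg (G'.presheaf.germ V x hxV) h1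
  rw [← RefHull.stalkMapₗ_germ, ← RefHull.stalkMapₗ_germ] at h2
  have h3 := (hΦ hxT).1 h2
  rw [germ_smul', germ_smul', ← sub_eq_zero, ← sub_smul, ← map_sub] at h3
  have h4 : u (K + 1) - a * c ∈ q := (mem_primeIdealOf hV hxV _).2 fun hh =>
    hs (((isUnit_germ_iff hxV _).2 hh).smul_eq_zero.1 h3)
  refine hu (K + 1) ?_
  rw [show u (K + 1) = (u (K + 1) - a * c) + a * c by ring]
  exact add_mem (hqy h4) (Ideal.mul_mem_right _ _ hay)

end Groth.Agent.H17.ZFinite
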