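import Groth.Agent.H17.ZFinite.Closure
import Groth.Agent.H17.ZDepth.Loci
import Groth.Agent.H10Coh.FinType2

/-!
# Coherence of the closure from finiteness of closures in residue fields
-/

set_option autoImplicit false
set_option linter.style.haveILetI false
set_option maxHeartbeats 400000
universe u

open CategoryTheory CategoryTheory.Limits AlgebraicGeometry TopologicalSpace Opposite

namespace Groth.Agent.H17.ZFinite

open Groth.Agent.H26ZClos Groth.Agent.H17.AssPts Groth.Agent.H17.ZDepth IsLocalRing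

variable {X : Scheme.{u}}

/-- The trace of `Z` on the spectrum of an affine open. -/
def ZOf {V : X.Opens} (hV : IsAffineOpen V) (Z : Set X) : Set (PrimeSpectrum Γ(X, V)) :=
  {p | hV.fromSpec p ∈ Z}

theorem mem_ZOf_iff {V : X.Opens} (hV : IsAffineOpen V) (Z : Set X) (z : V) :
    hV.primeIdealOf z ∈ ZOf hV Z ↔ z.1 ∈ Z := by
  show hV.fromSpec (hV.primeIdealOf z) ∈ Z ↔ _
  rw [hV.fromSpec_primeIdealOf z]

/-- Germs off `Z` of sections of the closure come from the module. -/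
theorem exists_smul_mem_range [IsLocallyNoetherian X] {Z : Set X} {F : X.Modules} (hF : Coh.IsQCoh F)
    {V : X.Opens} (hV : IsAffineOpen V) {z : X} (hz : z ∈ V) (hzZ : z ∉ Z)
    (n : Γ((ZClos.H0 Z).obj F, V)) :
    ∃ a : Γ(X, V), z ∈ X.basicOpen a ∧ ∃ m, a • n = (ZClos.rhoApp Z F).app V m := by
  obtain ⟨w, hw⟩ := (rhoStalk_bijective F hzZ).2 (((ZClos.H0 Z).obj F).presheaf.germ V z hz n)
  change rhoL Z F z w = _ at hw
  obtain ⟨a, m₀, ha, ham⟩ := exists_smul_germ_eq F hF hV hz w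
  have h1 : ((ZClos.H0 Z).obj F).presheaf.germ V z hz (a • n - (ZClos.rhoApp Z F).app V m₀) = 0 := by
    rw [map_sub, sub_eq_zero, germ_smul', ← hw, ← map_smul, ham]
    exact RefHull.stalkMapₗ_germ _ z hz m₀
  obtain ⟨b, hb, hbn⟩ := exists_smul_eq_zero_of_germ _ (isQCoh_H0 Z F hF) hV hz h1
  rw [smul_sub, sub_eq_zero, smul_smul, ← Scheme.Modules.Hom.app_smul] at hbn
  exact ⟨b * a, mem_basicOpen_mul hb ha, _, hbn⟩

/-- The prime of an associated point is associated to the sections. -/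
theorem prime_mem_associatedPrimes [IsLocallyNoetherian X] {F : X.Modules} (hF : Coh.IsQCoh F)
    {V : X.Opens} (hV : IsAffineOpen V) {z : X} (hz : z ∈ V) (h : z ∈ AssSch.Ass F) :
    (hV.primeIdealOf ⟨z, hz⟩).asIdeal ∈ associatedPrimes Γ(X, V) Γ(F, V) := by
  obtain ⟨s, hs, hk⟩ := exists_witness F hF hV hz h
  refine ⟨(hV.primeIdealOf ⟨z, hz⟩).isPrime, s, le_antisymm (fun r hr => ?_) ?_⟩
  · obtain ⟨n, hn⟩ := hk r hr
    exact ⟨n, by rw [Submodule.mem_colon_singleton, Submodule.mem_bot]; exact hn⟩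
  · refine (Ideal.radical_mono fun a ha => ?_).trans_eq ((hV.primeIdealOf ⟨z, hz⟩).isPrime).radical
    rw [Submodule.mem_colon_singleton, Submodule.mem_bot] at ha
    exact (mem_primeIdealOf hV hz a).2 fun hu => hs (germ_eq_zero_of_smul F hz hu ha)

/-- Sections of the closure over an affine open form a finite module. -/
theorem finite_sections_H0 [IsLocallyNoetherian X] {Z : Set X} (hZ : StableUnderSpecialization Z)
    {F : X.Modules} (hF : Coh.IsCoh F) {V : X.Opens} (hV : IsAffineOpen V)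
    (H : ∀ (z : X) (hz : z ∈ V), z ∈ AssSch.Ass F → z ∉ Z →
      ClosureFinite (ZOf hV Z) (hV.primeIdealOf ⟨z, hz⟩).asIdeal) :
    Module.Finite Γ(X, V) Γ((ZClos.H0 Z).obj F, V) := by
  classical
  haveI : IsNoetherianRing Γ(X, V) := IsLocallyNoetherian.component_noetherian ⟨V, hV⟩
  haveI : Module.Finite Γ(X, V) Γ(F, V) := @H10Coh.finite_sections _ F hF.1 hF.2 _ hV
  let f : Γ(F, V) →ₗ[Γ(X, V)] Γ((ZClos.H0 Z).obj F, V) :=
    { toFun := (ZClos.rhoApp Z F).app V, map_add' := map_add _,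
      map_smul' := fun a m => (ZClos.rhoApp Z F).app_smul a m }
  let ι := {z : V // z.1 ∈ AssSch.Ass F ∧ z.1 ∉ Z}
  haveI : Finite ι := by
    haveI : Finite (associatedPrimes Γ(X, V) Γ(F, V)) := (associatedPrimes.finite Γ(X, V) Γ(F, V)).to_subtype
    refine Finite.of_injective (β := associatedPrimes Γ(X, V) Γ(F, V))
      (fun i => ⟨_, prime_mem_associatedPrimes hF.1 hV i.1.2 i.2.1⟩) fun i j h => Subtype.ext ?_
    have h1 : hV.primeIdealOf i.1 = hV.primeIdealOf j.1 := PrimeSpectrum.ext (congrArg Subtype.val h)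
    exact Subtype.ext (by rw [← hV.fromSpec_primeIdealOf i.1, h1, hV.fromSpec_primeIdealOf j.1])
  have hψ : ∀ i : ι, ∃ ψ : Γ((ZClos.H0 Z).obj F, V) →ₗ[Γ(X, V)]
      LocalizedModule (hV.primeIdealOf i.1).asIdeal.primeCompl Γ(F, V), ∀ n, ψ n = 0 →
        ((ZClos.H0 Z).obj F).presheaf.germ V i.1.1 i.1.2 n = 0 := by
    intro i
    letI := TopCat.Presheaf.algebra_section_stalk X.presheaf i.1
    letI := Module.compHom (F.presheaf.stalk i.1.1) (algebraMap Γ(X, V) (X.presheaf.stalk i.1.1))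
    letI := Module.compHom (((ZClos.H0 Z).obj F).presheaf.stalk i.1.1)
      (algebraMap Γ(X, V) (X.presheaf.stalk i.1.1))
    haveI : IsScalarTower Γ(X, V) (X.presheaf.stalk i.1.1) (F.presheaf.stalk i.1.1) :=
      .of_algebraMap_smul fun _ _ => rfl
    haveI : IsScalarTower Γ(X, V) (X.presheaf.stalk i.1.1) (((ZClos.H0 Z).obj F).presheaf.stalk i.1.1) :=
      .of_algebraMap_smul fun _ _ => rfl
    haveI : IsLocalizedModule (hV.primeIdealOf i.1).asIdeal.primeCompl (H29Fitt.germLin F i.1) :=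
      H29Fitt.isLocalizedModule_germLin F hF.1 hV i.1
    let eφ := (LinearEquiv.ofBijective (rhoL Z F i.1.1) (rhoStalk_bijective F i.2.2)).restrictScalars Γ(X, V)
    let eF := IsLocalizedModule.iso (hV.primeIdealOf i.1).asIdeal.primeCompl (H29Fitt.germLin F i.1)
    refine ⟨(eφ.symm.trans eF.symm).toLinearMap ∘ₗ H29Fitt.germLin ((ZClos.H0 Z).obj F) i.1, fun n hn => ?_⟩
    exact (eφ.symm.trans eF.symm).injective (hn.trans (map_zero (eφ.symm.trans eF.symm)).symm)
  choose ψ hψ using hψ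
  refine finite_of_closure (Z := ZOf hV Z) f (fun n p hp => ?_) (fun i : ι => hV.primeIdealOf i.1)
    (fun i => H i.1.1 i.1.2 i.2.1 i.2.2) ψ fun n hn => ?_
  · obtain ⟨z, rfl⟩ := H29Blow.exists_primeIdealOf_eq hV p
    obtain ⟨a, ha, m, hm⟩ := exists_smul_mem_range hF.1 hV z.2 (fun h => hp ((mem_ZOf_iff hV Z z).2 h)) n
    exact ⟨a, fun h => (mem_primeIdealOf hV z.2 a).1 h ha, m, hm.symm⟩
  · have hne : LinearMap.ker (LinearMap.toSpanSingleton Γ(X, V) Γ((ZClos.H0 Z).obj F, V) n) ≠ ⊤ := fun h => hn (by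
      have h1 : (1 : Γ(X, V)) ∈ LinearMap.ker (LinearMap.toSpanSingleton Γ(X, V) Γ((ZClos.H0 Z).obj F, V) n) :=
        h ▸ trivial
      simpa using h1)
    obtain ⟨M, hM, hle⟩ := Ideal.exists_le_maximal _ hne
    obtain ⟨p, hp, -⟩ := Ideal.exists_minimalPrimes_le (J := M) hle
    obtain ⟨⟨z, hzV⟩, hz⟩ := H29Blow.exists_primeIdealOf_eq hV ⟨p, hp.1.1⟩
    have hzp : (hV.primeIdealOf ⟨z, hzV⟩).asIdeal = p := congrArg PrimeSpectrum.asIdeal hz
    obtain ⟨hw, hg⟩ := isWeakAssPoint_of_minimal _ (isQCoh_H0 Z F hF.1) hV hzV n (hzp.symm ▸ hp)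
    have hG : z ∈ AssSch.Ass ((ZClos.H0 Z).obj F) := (H29Blow.isAssPoint_iff_isWeakAssPoint _ z).2 hw
    have hzZ : z ∉ Z := ass_H0_notMem hZ F hF.1 hG
    have hFz : z ∈ AssSch.Ass F := IsAssociatedPrime.map_of_injective
      (f := (LinearEquiv.ofBijective (rhoL Z F z) (rhoStalk_bijective F hzZ)).symm.toLinearMap) hG
      (LinearEquiv.injective _)
    let i : ι := ⟨⟨z, hzV⟩, hFz, hzZ⟩
    refine ⟨i, fun h0 => hg (hψ i n h0), fun a ha => ?_⟩
    obtain ⟨⟨a₀, t⟩, hat⟩ := IsLocalization.surj (hV.primeIdealOf i.1).asIdeal.primeCompl a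
    have ha₀ : a₀ ∈ p := by
      rw [← hzp, ← IsLocalization.AtPrime.to_map_mem_maximal_iff
        (Localization.AtPrime (hV.primeIdealOf i.1).asIdeal) (hV.primeIdealOf i.1).asIdeal a₀, ← hat]
      exact Ideal.mul_mem_right _ _ ha
    haveI : p.IsPrime := hp.1.1
    obtain ⟨t', ht', j, hj⟩ : ∃ t' ∉ p, ∃ j : ℕ, (t' * a₀ ^ j) • n = 0 := by
      by_contra hc
      push_neg at hc
      obtain ⟨Q, hQp, hJQ, hQS⟩ := Ideal.exists_le_prime_disjoint
        (LinearMap.ker (LinearMap.toSpanSingleton Γ(X, V) Γ((ZClos.H0 Z).obj F, V) n))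
        (p.primeCompl ⊔ Submonoid.powers a₀) (by
          rw [Set.disjoint_left]
          intro w hwJ hwS
          obtain ⟨u, hu, v, ⟨j, rfl⟩, rfl⟩ := Submonoid.mem_sup.mp hwS
          exact hc u hu j (by simpa using hwJ))
      have hQle : Q ≤ p := fun w hw => by
        by_contra hwp
        exact Set.disjoint_left.mp hQS hw (Submonoid.mem_sup_left hwp)
      exact Set.disjoint_left.mp hQS (hp.2 ⟨hQp, hJQ⟩ hQle ha₀)
        (Submonoid.mem_sup_right (Submonoid.mem_powers a₀))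
    refine ⟨j, ?_⟩
    have h1 := congrArg (ψ i) hj
    rw [map_smul, map_zero, ← algebraMap_smul (Localization.AtPrime (hV.primeIdealOf i.1).asIdeal),
      map_mul, map_pow, ← hat, mul_pow] at h1
    have hu : IsUnit (algebraMap Γ(X, V) (Localization.AtPrime (hV.primeIdealOf i.1).asIdeal) t' *
        algebraMap Γ(X, V) (Localization.AtPrime (hV.primeIdealOf i.1).asIdeal) t ^ j) :=
      (IsLocalization.map_units _ (⟨t', show t' ∉ (hV.primeIdealOf i.1).asIdeal from hzp.symm ▸ ht'⟩ :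
        (hV.primeIdealOf i.1).asIdeal.primeCompl)).mul
        ((IsLocalization.map_units _ t).pow j)
    refine hu.smul_eq_zero.1 ?_
    rw [smul_smul, ← h1]
    congr 1
    ring

/-- Coherence of the closure. -/
theorem isCoh_H0 [IsLocallyNoetherian X] {Z : Set X} (hZ : StableUnderSpecialization Z)
    {F : X.Modules} (hF : Coh.IsCoh F)
    (H : ∀ (V : X.Opens) (hV : IsAffineOpen V) (z : X) (hz : z ∈ V), z ∈ AssSch.Ass F → z ∉ Z →
      ClosureFinite (ZOf hV Z) (hV.primeIdealOf ⟨z, hz⟩).asIdeal) :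
    Coh.IsCoh ((ZClos.H0 Z).obj F) :=
  (H10Coh.isCoh_iff_finite_sections _).2
    ⟨isQCoh_H0 Z F hF.1, fun V hV => finite_sections_H0 hZ hF hV (H V hV)⟩

end Groth.Agent.H17.ZFinite
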