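import Groth.Agent.H17.ZFinite.Descend
import Groth.Agent.H10Coh.OpenSpec
import Groth.Prelude.Def_EGA4c

/-!
# Coherence of closures on affine schemes and finiteness of height one hulls
-/

set_option autoImplicit false
set_option linter.style.haveILetI false
set_option maxHeartbeats 1600000
universe u

open CategoryTheory CategoryTheory.Limits AlgebraicGeometry TopologicalSpace Opposite

namespace Groth.Agent.H17.ZFinite

open Groth.Agent.H26ZClos Groth.Agent.H17.AssPts Groth.Agent.H17.ZDepth IsLocalRing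

variable {A : Type u} [CommRing A]

/-- Global functions of an affine scheme. -/
noncomputable abbrev sigma (A : Type u) [CommRing A] : Γ(Spec (CommRingCat.of A), ⊤) ≃+* A :=
  (Scheme.ΓSpecIso (CommRingCat.of A)).commRingCatIsoToRingEquiv

theorem mem_basicOpen_sigma {z : Spec (CommRingCat.of A)} (r : Γ(Spec (CommRingCat.of A), ⊤)) :
    z ∈ (Spec (CommRingCat.of A)).basicOpen r ↔ sigma A r ∉ z.asIdeal := by
  rw [basicOpen_eq_of_affine']
  rfl

theorem primeIdealOf_top (z : Spec (CommRingCat.of A)) (hz : z ∈ (⊤ : (Spec (CommRingCat.of A)).Opens)) :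
    ((isAffineOpen_top (Spec (CommRingCat.of A))).primeIdealOf ⟨z, hz⟩).asIdeal =
      z.asIdeal.comap (sigma A) := by
  ext r
  rw [mem_primeIdealOf, mem_basicOpen_sigma, Classical.not_not, Ideal.mem_comap]

/-- Global sections of `M~`. -/
noncomputable def tau (A : Type u) [CommRing A] (M : Type u) [AddCommGroup M] [Module A M] :
    M → Γ(EGA4.tildeOf A M, ⊤) :=
  fun m => (tilde.toOpen (ModuleCat.of (CommRingCat.of A) M) ⊤).hom m

theorem toOpen_bijective {R : CommRingCat.{u}} (N : ModuleCat.{u} R) :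
    Function.Bijective (tilde.toOpen N ⊤).hom :=
  ConcreteCategory.bijective_of_isIso (tilde.toOpen N ⊤)

theorem tau_bijective (M : Type u) [AddCommGroup M] [Module A M] : Function.Bijective (tau A M) :=
  toOpen_bijective (R := CommRingCat.of A) (ModuleCat.of (CommRingCat.of A) M)

theorem tau_add (M : Type u) [AddCommGroup M] [Module A M] (m m' : M) :
    tau A M (m + m') = tau A M m + tau A M m' :=
  map_add (tilde.toOpen (ModuleCat.of (CommRingCat.of A) M) ⊤).hom m m'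

theorem tau_smul (M : Type u) [AddCommGroup M] [Module A M] (a : A) (m : M) :
    tau A M (a • m) = (sigma A).symm a • tau A M m := by
  refine ((tilde.toOpen (ModuleCat.of (CommRingCat.of A) M) ⊤).hom.map_smul a m).trans ?_
  have h := Scheme.Modules.smul_Spec_def (M := EGA4.tildeOf A M) (U := ⊤) a (tau A M m)
  rw [Subsingleton.elim (⊤ : (Spec (CommRingCat.of A)).Opens).leTop.op (𝟙 _), CategoryTheory.Functor.map_id] at h
  exact h

theorem isCoh_tildeOf (M : Type u) [AddCommGroup M] [Module A M] [Module.Finite A M] :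
    Coh.IsCoh (EGA4.tildeOf A M) :=
  haveI : Module.Finite (CommRingCat.of A) (ModuleCat.of (CommRingCat.of A) M) := ‹Module.Finite A M›
  H10Coh.isCoh_tilde _

variable [IsNoetherianRing A]

theorem mem_associatedPrimes_of_ass (M : Type u) [AddCommGroup M] [Module A M] [Module.Finite A M]
    {z : Spec (CommRingCat.of A)} (hz : z ∈ AssSch.Ass (EGA4.tildeOf A M)) :
    z.asIdeal ∈ associatedPrimes A M := by
  obtain ⟨-, s, hs⟩ := prime_mem_associatedPrimes (isCoh_tildeOf M).1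
    (isAffineOpen_top (Spec (CommRingCat.of A))) (z := z) trivial hz
  obtain ⟨m, rfl⟩ := (tau_bijective M).2 s
  refine ⟨z.isPrime, m, ?_⟩
  have h0 : tau A M 0 = 0 := map_zero (tilde.toOpen (ModuleCat.of (CommRingCat.of A) M) ⊤).hom
  ext a
  have h1 := congrArg (fun I => (sigma A).symm a ∈ I) hs
  rw [primeIdealOf_top] at h1
  simp only [Ideal.mem_comap, RingEquiv.apply_symm_apply, eq_iff_iff] at h1
  refine h1.trans (exists_congr fun n => ?_)
  rw [Submodule.mem_colon_singleton, Submodule.mem_bot, Submodule.mem_colon_singleton, Submodule.mem_bot,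
    ← map_pow, ← tau_smul, ← h0]
  exact (tau_bijective M).1.eq_iff

/-- Finite hulls give coherent closures. -/
theorem isCoh_H0_tilde (hA : ∀ (q : Ideal A) [q.IsPrime], EGA4.HeightOneHullFinite (A ⧸ q))
    (M : Type u) [AddCommGroup M] [Module A M] [Module.Finite A M]
    (Z : Set (PrimeSpectrum A)) (hZ : StableUnderSpecialization Z)
    (hcond : ∀ x : PrimeSpectrum A, x.asIdeal ∈ associatedPrimes A M → x ∉ Z →
      ∀ y ∈ Z, x.asIdeal ≤ y.asIdeal → (2 : ℕ∞) ≤ (y.asIdeal.map (Ideal.Quotient.mk x.asIdeal)).height) :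
    Coh.IsCoh ((ZClos.H0 (X := Spec (CommRingCat.of A)) Z).obj (EGA4.tildeOf A M)) := by
  have hV := isAffineOpen_top (Spec (CommRingCat.of A))
  haveI : IsNoetherianRing (CommRingCat.of A) := ‹IsNoetherianRing A›
  have hF := isCoh_tildeOf (A := A) M
  have hq := isQCoh_H0 (X := Spec (CommRingCat.of A)) Z (EGA4.tildeOf A M) hF.1
  refine ⟨hq, (@H10Coh.isFT_isFP_of_affineCover _ _ hq PUnit.{u + 1} (fun _ => ⊤) (by simp [IsOpenCover])
    (fun _ => hV) fun _ => ?_).1⟩
  haveI : IsNoetherianRing Γ(Spec (CommRingCat.of A), ⊤) := isNoetherianRing_of_ringEquiv A (sigma A).symm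
  refine finite_sections_H0 (X := Spec (CommRingCat.of A)) hZ hF hV fun z hz hzA hzZ => ?_
  haveI := z.isPrime
  have hq' := primeIdealOf_top z hz
  have hmap : (hV.primeIdealOf ⟨z, hz⟩).asIdeal = Ideal.map ((sigma A).symm : A →+* _) z.asIdeal := by
    rw [hq', Ideal.map_comap_of_equiv, RingEquiv.symm_symm]
  let τ : (A ⧸ z.asIdeal) ≃+* (Γ(Spec (CommRingCat.of A), ⊤) ⧸ (hV.primeIdealOf ⟨z, hz⟩).asIdeal) :=
    Ideal.quotientEquiv z.asIdeal (hV.primeIdealOf ⟨z, hz⟩).asIdeal (sigma A).symm hmap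
  refine closureFinite_of_hull _ (heightOneHullFinite_of_ringEquiv τ (hA z.asIdeal)) fun y' hy' hle => ?_
  obtain ⟨⟨y, hy⟩, rfl⟩ := H29Blow.exists_primeIdealOf_eq hV y'
  have hyZ : y ∈ Z := (mem_ZOf_iff hV Z ⟨y, hy⟩).1 hy'
  have hle' : z.asIdeal ≤ y.asIdeal := fun a ha => by
    have h1 : (sigma A).symm a ∈ (hV.primeIdealOf ⟨y, hy⟩).asIdeal := hle (by
      rw [hq', Ideal.mem_comap, RingEquiv.apply_symm_apply]; exact ha)
    rwa [primeIdealOf_top y hy, Ideal.mem_comap, RingEquiv.apply_symm_apply] at h1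
  refine le_of_le_of_eq (hcond z (mem_associatedPrimes_of_ass M hzA) hzZ y hyZ hle') ?_
  have hy'map : (hV.primeIdealOf ⟨y, hy⟩).asIdeal = Ideal.map ((sigma A).symm : A →+* _) y.asIdeal := by
    rw [primeIdealOf_top y hy, Ideal.map_comap_of_equiv, RingEquiv.symm_symm]
  refine (RingEquiv.height_map τ _).symm.trans (congrArg Ideal.height ?_)
  rw [hy'map]
  refine (Ideal.map_map _ _).trans (Eq.trans ?_ (Ideal.map_map _ _).symm)
  exact congrArg (fun φ => Ideal.map φ y.asIdeal) (RingHom.ext fun a => rfl)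

/-- `ρ` on global sections of `M~`. -/
noncomputable def rhoTop (A : Type u) [CommRing A] (Z : Set (PrimeSpectrum A)) (M : Type u)
    [AddCommGroup M] [Module A M] (m : M) :
    Γ((ZClos.H0 (X := Spec (CommRingCat.of A)) Z).obj (EGA4.tildeOf A M), ⊤) :=
  (ZClos.rhoApp (X := Spec (CommRingCat.of A)) Z (EGA4.tildeOf A M)).app ⊤ (tau A M m)

omit [IsNoetherianRing A] in
theorem rhoTop_smul (Z : Set (PrimeSpectrum A)) (M : Type u) [AddCommGroup M] [Module A M] (a : A) (m : M) :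
    rhoTop A Z M (a • m) = (sigma A).symm a • rhoTop A Z M m := by
  unfold rhoTop
  rw [tau_smul, Scheme.Modules.Hom.app_smul]

omit [IsNoetherianRing A] in
theorem rhoTop_add (Z : Set (PrimeSpectrum A)) (M : Type u) [AddCommGroup M] [Module A M] (m m' : M) :
    rhoTop A Z M (m + m') = rhoTop A Z M m + rhoTop A Z M m' := by
  unfold rhoTop
  rw [tau_add, map_add]

omit [IsNoetherianRing A] in
theorem ass_quotient (q : Ideal A) [q.IsPrime] {P : Ideal A} (hP : P ∈ associatedPrimes A (A ⧸ q)) :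
    P = q := by
  obtain ⟨hPp, m, hm⟩ := hP
  obtain ⟨m, rfl⟩ := Ideal.Quotient.mk_surjective m
  have hmq : m ∉ q := fun hmem => hPp.ne_top (by
    rw [hm, Ideal.radical_eq_top, Ideal.eq_top_iff_one, Submodule.mem_colon_singleton, Submodule.mem_bot,
      one_smul, Ideal.Quotient.eq_zero_iff_mem]
    exact hmem)
  rw [hm]
  refine Eq.trans ?_ (‹q.IsPrime›).radical
  congr 1
  ext a
  rw [Submodule.mem_colon_singleton, Submodule.mem_bot, Algebra.smul_def, Ideal.Quotient.algebraMap_eq,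
    ← map_mul, Ideal.Quotient.eq_zero_iff_mem]
  exact ⟨fun hh => ((‹q.IsPrime›).mem_or_mem hh).resolve_right hmq, Ideal.mul_mem_right _ _⟩

theorem rhoTop_injective (q : Ideal A) [q.IsPrime] (Z : Set (PrimeSpectrum A))
    (hZ : StableUnderSpecialization Z) (hx₀ : (⟨q, ‹q.IsPrime›⟩ : PrimeSpectrum A) ∉ Z) :
    Function.Injective (rhoTop A Z (A ⧸ q)) := by
  haveI : IsNoetherianRing (CommRingCat.of A) := ‹IsNoetherianRing A›
  have hF := isCoh_tildeOf (A := A) (A ⧸ q)
  refine Function.Injective.comp (g := (ZClos.rhoApp (X := Spec (CommRingCat.of A)) Z _).app ⊤) ?_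
    (tau_bijective _).1
  refine TopCat.Presheaf.app_injective_of_stalkFunctor_map_injective
    (F := ⟨(EGA4.tildeOf A (A ⧸ q)).presheaf, (EGA4.tildeOf A (A ⧸ q)).isSheaf⟩)
    (ZClos.rhoApp (X := Spec (CommRingCat.of A)) Z _).mapPresheaf ⊤ fun x _ => ?_
  refine (isZPureAt_iff_ass hZ _ hF.1 x).2 fun z hz _ hzZ => hx₀ ?_
  have he : z = (⟨q, ‹q.IsPrime›⟩ : PrimeSpectrum A) :=
    PrimeSpectrum.ext (ass_quotient q (mem_associatedPrimes_of_ass _ hz))
  exact he ▸ hzZ

theorem ass_H0_quotient (q : Ideal A) [q.IsPrime] (Z : Set (PrimeSpectrum A))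
    (hZ : StableUnderSpecialization Z) {w : Spec (CommRingCat.of A)}
    (hw : w ∈ AssSch.Ass ((ZClos.H0 (X := Spec (CommRingCat.of A)) Z).obj (EGA4.tildeOf A (A ⧸ q)))) :
    w.asIdeal = q := by
  haveI : IsNoetherianRing (CommRingCat.of A) := ‹IsNoetherianRing A›
  have hwZ := ass_H0_notMem (X := Spec (CommRingCat.of A)) hZ (EGA4.tildeOf A (A ⧸ q))
    (isCoh_tildeOf (A := A) (A ⧸ q)).1 hw
  have hFw : w ∈ AssSch.Ass (EGA4.tildeOf A (A ⧸ q)) := IsAssociatedPrime.map_of_injective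
    (f := (LinearEquiv.ofBijective (rhoL (X := Spec (CommRingCat.of A)) Z (EGA4.tildeOf A (A ⧸ q)) w)
      (rhoStalk_bijective (EGA4.tildeOf A (A ⧸ q)) hwZ)).symm.toLinearMap) hw
    (LinearEquiv.injective _)
  exact ass_quotient q (mem_associatedPrimes_of_ass _ hFw)

theorem regular_H0_quotient (q : Ideal A) [q.IsPrime] (Z : Set (PrimeSpectrum A))
    (hZ : StableUnderSpecialization Z) (d : A) (hdq : d ∉ q) (w : Spec (CommRingCat.of A)) :
    IsSMulRegular (((ZClos.H0 (X := Spec (CommRingCat.of A)) Z).obj (EGA4.tildeOf A (A ⧸ q))).presheaf.stalk w)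
      ((Spec (CommRingCat.of A)).presheaf.germ (⊤ : (Spec (CommRingCat.of A)).Opens) w trivial
        ((sigma A).symm d)) := by
  haveI : IsNoetherianRing (CommRingCat.of A) := ‹IsNoetherianRing A›
  refine isSMulRegular_germ_of_ass (X := Spec (CommRingCat.of A))
    ((ZClos.H0 (X := Spec (CommRingCat.of A)) Z).obj (EGA4.tildeOf A (A ⧸ q)))
    (isQCoh_H0 (X := Spec (CommRingCat.of A)) Z (EGA4.tildeOf A (A ⧸ q)) (isCoh_tildeOf (A := A) (A ⧸ q)).1)
    (isAffineOpen_top (Spec (CommRingCat.of A))) trivial _ fun w' _ hA _ => (mem_basicOpen_sigma _).2 ?_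
  intro hc
  rw [RingEquiv.apply_symm_apply] at hc
  exact hdq (ass_H0_quotient q Z hZ hA ▸ hc)

/-- A fraction with denominators away from a closed subset of `Z` gives a section of the closure. -/
theorem exists_section (q : Ideal A) [q.IsPrime] (Z : Set (PrimeSpectrum A))
    (hZ : StableUnderSpecialization Z)
    (b d : A) (hdq : d ∉ q) (J : Ideal A) (hJZ : PrimeSpectrum.zeroLocus (J : Set A) ⊆ Z)
    (hJ : ∀ a ∈ J, ∃ b', Ideal.Quotient.mk q (d * b') = Ideal.Quotient.mk q (a * b)) :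
    ∃ n, (sigma A).symm d • n = rhoTop A Z (A ⧸ q) (Ideal.Quotient.mk q b) := by
  haveI : IsNoetherianRing (CommRingCat.of A) := ‹IsNoetherianRing A›
  have hV := isAffineOpen_top (Spec (CommRingCat.of A))
  have hF := isCoh_tildeOf (A := A) (A ⧸ q)
  have hq := isQCoh_H0 (X := Spec (CommRingCat.of A)) Z (EGA4.tildeOf A (A ⧸ q)) hF.1
  let T : ZClos.Cl (X := Spec (CommRingCat.of A)) Z :=
    ⟨⟨PrimeSpectrum.zeroLocus (J : Set A), PrimeSpectrum.isClosed_zeroLocus _⟩, hJZ⟩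
  let W : (Spec (CommRingCat.of A)).Opens := ⊤ ⊓ T.U
  obtain ⟨e, he⟩ := exists_div ((ZClos.H0 (X := Spec (CommRingCat.of A)) Z).obj (EGA4.tildeOf A (A ⧸ q)))
    (W := W) ((Spec (CommRingCat.of A)).presheaf.map (homOfLE (inf_le_left : W ≤ ⊤)).op ((sigma A).symm d))
    (((ZClos.H0 (X := Spec (CommRingCat.of A)) Z).obj (EGA4.tildeOf A (A ⧸ q))).presheaf.map
      (homOfLE (inf_le_left : W ≤ ⊤)).op (rhoTop A Z (A ⧸ q) (Ideal.Quotient.mk q b)))
    (fun w hw => by
      rw [TopCat.Presheaf.germ_res_apply]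
      exact regular_H0_quotient q Z hZ d hdq w)
    (fun w hw => by
      obtain ⟨a, haJ, haw⟩ := Set.not_subset.1 (show ¬ (J : Set A) ⊆ w.asIdeal from hw.2)
      obtain ⟨b', hb'⟩ := hJ a haJ
      have hu : IsUnit ((Spec (CommRingCat.of A)).presheaf.germ ⊤ w trivial ((sigma A).symm a)) :=
        (isUnit_germ_iff (U := (⊤ : (Spec (CommRingCat.of A)).Opens)) trivial _).2
          ((mem_basicOpen_sigma _).2 (by rw [RingEquiv.apply_symm_apply]; exact haw))
      obtain ⟨v, hv⟩ := hu.exists_left_inv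
      refine ⟨v • ((ZClos.H0 (X := Spec (CommRingCat.of A)) Z).obj (EGA4.tildeOf A (A ⧸ q))).presheaf.germ
        ⊤ w trivial (rhoTop A Z (A ⧸ q) (Ideal.Quotient.mk q b')), ?_⟩
      rw [TopCat.Presheaf.germ_res_apply, TopCat.Presheaf.germ_res_apply, smul_comm, ← germ_smul',
        ← rhoTop_smul, show d • Ideal.Quotient.mk q b' = a • Ideal.Quotient.mk q b from hb', rhoTop_smul,
        germ_smul', smul_smul, hv, one_smul])
  have hres := (isZClosed_iff_res (X := Spec (CommRingCat.of A)) Z _).1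
    (isZClosed_H0 (EGA4.tildeOf A (A ⧸ q))) T ⊤
  obtain ⟨n, hn⟩ := hres.2 e
  refine ⟨n, hres.1 ?_⟩
  show ((ZClos.H0 (X := Spec (CommRingCat.of A)) Z).obj (EGA4.tildeOf A (A ⧸ q))).presheaf.map
      (homOfLE (inf_le_left : W ≤ ⊤)).op _ =
    ((ZClos.H0 (X := Spec (CommRingCat.of A)) Z).obj (EGA4.tildeOf A (A ⧸ q))).presheaf.map
      (homOfLE (inf_le_left : W ≤ ⊤)).op _
  rw [Scheme.Modules.map_smul,
    show ((ZClos.H0 (X := Spec (CommRingCat.of A)) Z).obj (EGA4.tildeOf A (A ⧸ q))).presheaf.map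
      (homOfLE (inf_le_left : W ≤ ⊤)).op n = e from hn]
  exact he

/-- Fractions attached to sections of the closure. -/
theorem fg_fractions (q : Ideal A) [q.IsPrime] (Z : Set (PrimeSpectrum A))
    (hx₀ : (⟨q, ‹q.IsPrime›⟩ : PrimeSpectrum A) ∉ Z)
    [Module.Finite Γ(Spec (CommRingCat.of A), ⊤)
      Γ((ZClos.H0 (X := Spec (CommRingCat.of A)) Z).obj (EGA4.tildeOf A (A ⧸ q)), ⊤)] :
    ∃ C : Submodule (A ⧸ q) (FractionRing (A ⧸ q)), C.FG ∧ ∀ n, ∃ l ∈ C, ∃ (a : A) (m : A ⧸ q),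
      a ∉ q ∧ (sigma A).symm a • n = rhoTop A Z (A ⧸ q) m ∧
        algebraMap (A ⧸ q) (FractionRing (A ⧸ q)) m =
          algebraMap (A ⧸ q) (FractionRing (A ⧸ q)) (Ideal.Quotient.mk q a) * l := by
  classical
  haveI : IsNoetherianRing (CommRingCat.of A) := ‹IsNoetherianRing A›
  have hV := isAffineOpen_top (Spec (CommRingCat.of A))
  have hF := isCoh_tildeOf (A := A) (A ⧸ q)
  obtain ⟨G, hG⟩ := Module.Finite.fg_top (R := Γ(Spec (CommRingCat.of A), ⊤))
    (M := Γ((ZClos.H0 (X := Spec (CommRingCat.of A)) Z).obj (EGA4.tildeOf A (A ⧸ q)), ⊤))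
  have hgen : ∀ g : G, ∃ (a : A) (m : A ⧸ q), a ∉ q ∧ (sigma A).symm a • g.1 = rhoTop A Z (A ⧸ q) m := by
    intro g
    obtain ⟨a', ha', s, hs⟩ := exists_smul_mem_range (X := Spec (CommRingCat.of A)) hF.1 hV
      (z := (⟨q, ‹q.IsPrime›⟩ : PrimeSpectrum A)) trivial hx₀ g.1
    obtain ⟨m, rfl⟩ := (tau_bijective (A := A) (A ⧸ q)).2 s
    refine ⟨sigma A a', m, (mem_basicOpen_sigma a').1 ha', ?_⟩
    rw [RingEquiv.symm_apply_apply]; exact hs
  choose ga gm hga hgm using hgen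
  have ham : ∀ a, a ∉ q → algebraMap (A ⧸ q) (FractionRing (A ⧸ q)) (Ideal.Quotient.mk q a) ≠ 0 :=
    fun a ha h0 => ha (Ideal.Quotient.eq_zero_iff_mem.1
      (IsFractionRing.injective (A ⧸ q) (FractionRing (A ⧸ q)) (h0.trans (map_zero _).symm)))
  refine ⟨Submodule.span (A ⧸ q) (Set.range fun g : G => algebraMap (A ⧸ q) (FractionRing (A ⧸ q)) (gm g) /
    algebraMap (A ⧸ q) (FractionRing (A ⧸ q)) (Ideal.Quotient.mk q (ga g))),
    Submodule.fg_span (Set.finite_range _), fun n => ?_⟩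
  have hn : n ∈ Submodule.span Γ(Spec (CommRingCat.of A), ⊤) (G : Set _) := hG ▸ trivial
  induction hn using Submodule.span_induction with
  | mem g hg =>
    refine ⟨_, Submodule.subset_span ⟨⟨g, hg⟩, rfl⟩, ga ⟨g, hg⟩, gm ⟨g, hg⟩, hga _, hgm _, ?_⟩
    rw [mul_div_cancel₀ _ (ham _ (hga _))]
  | zero =>
    refine ⟨0, zero_mem _, 1, (0 : A) • (0 : A ⧸ q), Ideal.IsPrime.one_notMem ‹q.IsPrime›, ?_, by simp⟩
    rw [smul_zero, rhoTop_smul, map_zero, zero_smul]
  | add p p' _ _ hp hp' =>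
    obtain ⟨l, hl, a, m, ha, h1, h2⟩ := hp
    obtain ⟨l', hl', a', m', ha', h1', h2'⟩ := hp'
    refine ⟨l + l', add_mem hl hl', a * a', a' • m + a • m', fun hh =>
      ((‹q.IsPrime›).mem_or_mem hh).elim ha ha', ?_, ?_⟩
    · rw [rhoTop_add, rhoTop_smul, rhoTop_smul, ← h1, ← h1', smul_add, map_mul, smul_smul, smul_smul,
        mul_comm ((sigma A).symm a')]
    · rw [map_add, Algebra.smul_def, Algebra.smul_def, map_mul, map_mul, map_mul, map_mul,
        Ideal.Quotient.algebraMap_eq, h2, h2']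
      ring
  | smul r p _ hp =>
    obtain ⟨l, hl, a, m, ha, h1, h2⟩ := hp
    refine ⟨Ideal.Quotient.mk q (sigma A r) • l, Submodule.smul_mem _ _ hl, a, sigma A r • m, ha, ?_, ?_⟩
    · rw [rhoTop_smul, RingEquiv.symm_apply_apply, smul_comm, h1]
    · rw [Algebra.smul_def, map_mul, Algebra.smul_def, h2, Ideal.Quotient.algebraMap_eq]
      ring

/-- Coherent closures give finite hulls. -/
theorem heightOneHullFinite_of_isCoh
    (h : ∀ (M : Type u) [AddCommGroup M] [Module A M] [Module.Finite A M]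
        (Z : Set (PrimeSpectrum A)), StableUnderSpecialization Z →
        (∀ x : PrimeSpectrum A, x.asIdeal ∈ associatedPrimes A M → x ∉ Z →
          ∀ y ∈ Z, x.asIdeal ≤ y.asIdeal → (2 : ℕ∞) ≤ (y.asIdeal.map (Ideal.Quotient.mk x.asIdeal)).height) →
        Coh.IsCoh ((ZClos.H0 (X := Spec (CommRingCat.of A)) Z).obj (EGA4.tildeOf A M)))
    (q : Ideal A) [q.IsPrime] : EGA4.HeightOneHullFinite (A ⧸ q) := by
  classical
  let Z : Set (PrimeSpectrum A) :=
    {y | q ≤ y.asIdeal ∧ (2 : ℕ∞) ≤ (y.asIdeal.map (Ideal.Quotient.mk q)).height}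
  have hZ : StableUnderSpecialization Z := fun y y' hyy hy => by
    have hle : y.asIdeal ≤ y'.asIdeal := (PrimeSpectrum.le_iff_specializes y y').2 hyy
    exact ⟨hy.1.trans hle, hy.2.trans (Ideal.height_mono (Ideal.map_mono hle))⟩
  have hH := h (A ⧸ q) Z hZ fun x hx _ y hy hxy => by
    rw [ass_quotient q hx]; exact hy.2
  have hx₀ : (⟨q, ‹q.IsPrime›⟩ : PrimeSpectrum A) ∉ Z := fun hc => by
    have h2 : (2 : ℕ∞) ≤ (q.map (Ideal.Quotient.mk q)).height := hc.2
    rw [Ideal.map_quotient_self, Ideal.height_bot] at h2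
    exact absurd h2 (by norm_num)
  haveI : IsNoetherianRing (CommRingCat.of A) := ‹IsNoetherianRing A›
  haveI : Module.Finite Γ(Spec (CommRingCat.of A), ⊤)
      Γ((ZClos.H0 (X := Spec (CommRingCat.of A)) Z).obj (EGA4.tildeOf A (A ⧸ q)), ⊤) :=
    @H10Coh.finite_sections _ _ hH.1 hH.2 _ (isAffineOpen_top (Spec (CommRingCat.of A)))
  obtain ⟨C, hC, hrel⟩ := fg_fractions q Z hx₀
  rw [heightOneHullFinite_iff]
  refine fg_of_le (fun c hc => ?_) hC
  obtain ⟨b, d, hd, hbd⟩ := IsFractionRing.div_surjective (A ⧸ q) c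
  obtain ⟨b, rfl⟩ := Ideal.Quotient.mk_surjective b
  obtain ⟨d, rfl⟩ := Ideal.Quotient.mk_surjective d
  let am : A → FractionRing (A ⧸ q) := fun a => algebraMap (A ⧸ q) _ (Ideal.Quotient.mk q a)
  have ham : ∀ a, a ∉ q → am a ≠ 0 := fun a ha h0 => ha (Ideal.Quotient.eq_zero_iff_mem.1
    (IsFractionRing.injective (A ⧸ q) (FractionRing (A ⧸ q)) (h0.trans (map_zero _).symm)))
  have hdq : d ∉ q := fun hh => nonZeroDivisors.ne_zero hd (Ideal.Quotient.eq_zero_iff_mem.2 hh)
  have hdc : am d * c = am b := by rw [← hbd, mul_div_cancel₀ _ (ham d hdq)]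
  let J : Ideal A := (LinearMap.range (Algebra.linearMap A (FractionRing (A ⧸ q)))).comap
    (LinearMap.toSpanSingleton A (FractionRing (A ⧸ q)) c)
  have hJ : ∀ a, a ∈ J ↔ ∃ b', am b' = am a * c := fun a => exists_congr fun b' => by
    simp only [am, Algebra.linearMap_apply, LinearMap.toSpanSingleton_apply, Algebra.smul_def]
    rfl
  have hJZ : PrimeSpectrum.zeroLocus (J : Set A) ⊆ Z := fun y hy => by
    have hy' : J ≤ y.asIdeal := hy
    have hqy : q ≤ y.asIdeal := fun a ha => hy' ((hJ a).2 ⟨0, by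
      simp [am, Ideal.Quotient.eq_zero_iff_mem.2 ha]⟩)
    have hdy : d ∈ y.asIdeal := hy' ((hJ d).2 ⟨b, hdc.symm⟩)
    refine ⟨hqy, ?_⟩
    by_contra hlt
    have hP : (y.asIdeal.map (Ideal.Quotient.mk q)).IsPrime :=
      Ideal.map_isPrime_of_surjective Ideal.Quotient.mk_surjective (by rw [Ideal.mk_ker]; exact hqy)
    rcases lt_or_eq_of_le (Order.le_of_lt_add_one (show (y.asIdeal.map (Ideal.Quotient.mk q)).height < 1 + 1 by
      rw [one_add_one_eq_two]; exact not_le.1 hlt)) with h0 | h1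
    · have hbot := Ideal.height_eq_zero_iff_eq_bot.1 (ENat.lt_one_iff_eq_zero.1 h0)
      refine hdq (Ideal.Quotient.eq_zero_iff_mem.1 ?_)
      rw [← Ideal.mem_bot, ← hbot]
      exact Ideal.mem_map_of_mem _ hdy
    · obtain ⟨s, hs, e, he⟩ := hc _ h1
      obtain ⟨s, rfl⟩ := Ideal.Quotient.mk_surjective s
      obtain ⟨e, rfl⟩ := Ideal.Quotient.mk_surjective e
      exact hs (Ideal.mem_map_of_mem _ (hy' ((hJ s).2 ⟨e, he⟩)))
  obtain ⟨n, hn⟩ := exists_section q Z hZ b d hdq J hJZ fun a ha => by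
    obtain ⟨b', hb'⟩ := (hJ a).1 ha
    refine ⟨b', IsFractionRing.injective (A ⧸ q) (FractionRing (A ⧸ q)) ?_⟩
    rw [map_mul, map_mul, map_mul, map_mul]
    show am d * am b' = am a * am b
    rw [hb', ← hdc]; ring
  obtain ⟨l, hl, a, m, ha, h1, h2⟩ := hrel n
  have h3 : d • m = a • Ideal.Quotient.mk q b := rhoTop_injective q Z hZ hx₀ (by
    rw [rhoTop_smul, rhoTop_smul, ← h1, ← hn, smul_comm])
  have h4 : am d * (am a * l) = am a * am b := by
    rw [← h2]
    simp only [am]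
    rw [← map_mul, ← map_mul]
    exact congrArg _ h3
  have : c = l := by
    apply mul_left_cancel₀ (ham d hdq)
    apply mul_left_cancel₀ (ham a ha)
    rw [hdc, ← h4]; ring
  rw [this]
  exact hl

end Groth.Agent.H17.ZFinite
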